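import Mathlib.AlgebraicGeometry.AffineSpace
import Mathlib.AlgebraicGeometry.Morphisms.Smooth
import Mathlib.AlgebraicGeometry.Morphisms.Etale
import Mathlib.RingTheory.RingHom.StandardSmooth

/-!
# Etale charts carrying a section of a smooth morphism to the zero section
-/

set_option autoImplicit false
set_option linter.style.haveILetI false
set_option backward.isDefEq.respectTransparency.types false
universe u

open CategoryTheory CategoryTheory.Limits AlgebraicGeometry MvPolynomial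

namespace Groth.L27.SecChart

/-- Affine space of finite dimension is smooth over the base. -/
theorem smooth_over (n : Type u) [Finite n] (S : Scheme.{u}) : Smooth (𝔸(n; S) ↘ S) :=
  MorphismProperty.pullback_fst _ _ <| by
    have := isIso_of_isTerminal specULiftZIsTerminal.{u} terminalIsTerminal (terminal.from _)
    rw [← terminal.comp_from (Spec.map (CommRingCat.ofHom C)),
      MorphismProperty.cancel_right_of_respectsIso (P := @Smooth),
      HasRingHomProperty.Spec_iff (P := @Smooth)]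
    exact RingHom.smooth_algebraMap.mpr ⟨inferInstance, inferInstance⟩

/-- Coordinates given by an etale map from a polynomial ring give an etale map to affine space. -/
theorem etale_homOfVector {V U : Scheme.{u}} [IsAffine V] [IsAffine U] {n : Type u} (g : V ⟶ U)
    (v : n → Γ(V, ⊤)) (h : (eval₂Hom g.appTop.hom v).Etale) :
    Etale (AffineSpace.homOfVector g v) := by
  let e := eval₂Hom g.appTop.hom v
  have hm : AffineSpace.homOfVector g v ≫ (AffineSpace.isoOfIsAffine n U).hom =
      V.toSpecΓ ≫ Spec.map (CommRingCat.ofHom e) := by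
    rw [AffineSpace.isoOfIsAffine_hom, Scheme.toSpecΓ_naturality_assoc, ← Spec.map_comp]
    congr 2
    ext1
    refine MvPolynomial.ringHom_ext (fun a => ?_) fun i => ?_
    · simp only [CommRingCat.hom_comp, RingHom.coe_comp, Function.comp_apply,
        CommRingCat.hom_ofHom, e, MvPolynomial.coe_eval₂Hom, MvPolynomial.eval₂_C]
      rw [← CommRingCat.comp_apply, ← Scheme.Hom.comp_appTop, AffineSpace.homOfVector_over]
    · simp only [CommRingCat.hom_comp, RingHom.coe_comp, Function.comp_apply,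
        CommRingCat.hom_ofHom, e, MvPolynomial.coe_eval₂Hom, MvPolynomial.eval₂_X]
      exact AffineSpace.homOfVector_appTop_coord _ _ _
  haveI : Etale (Spec.map (CommRingCat.ofHom e)) := (HasRingHomProperty.Spec_iff (P := @Etale)).2 h
  haveI : Etale (AffineSpace.homOfVector g v ≫ (AffineSpace.isoOfIsAffine n U).hom) := hm ▸ inferInstance
  exact (MorphismProperty.cancel_right_of_respectsIso (P := @Etale) _ (AffineSpace.isoOfIsAffine n U).hom).1 this

/-- Translating coordinates by sections of the base keeps them etale. -/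
theorem etale_translate {V U : Scheme.{u}} {n : Type u} (g : V ⟶ U) (v : n → Γ(V, ⊤))
    (c : n → Γ(U, ⊤)) (h : Etale (AffineSpace.homOfVector g v)) :
    Etale (AffineSpace.homOfVector g fun i => v i - g.appTop (c i)) := by
  let t : 𝔸(n; U) ⟶ 𝔸(n; U) := AffineSpace.homOfVector (𝔸(n; U) ↘ U)
    fun i => AffineSpace.coord U i - (𝔸(n; U) ↘ U).appTop (c i)
  let t' : 𝔸(n; U) ⟶ 𝔸(n; U) := AffineSpace.homOfVector (𝔸(n; U) ↘ U)
    fun i => AffineSpace.coord U i + (𝔸(n; U) ↘ U).appTop (c i)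
  have key : ∀ {W : Scheme.{u}} (q : W ⟶ 𝔸(n; U)) (i : n),
      q.appTop ((𝔸(n; U) ↘ U).appTop (c i)) = (q ≫ 𝔸(n; U) ↘ U).appTop (c i) := fun q i => rfl
  haveI : IsIso t := by
    refine ⟨t', ?_, ?_⟩
    · refine AffineSpace.hom_ext (by simp [t, t']) fun i => ?_
      rw [Scheme.Hom.comp_appTop, Scheme.Hom.id_appTop, CommRingCat.comp_apply,
        AffineSpace.homOfVector_appTop_coord, map_add, key, AffineSpace.homOfVector_appTop_coord,
        AffineSpace.homOfVector_over]
      exact sub_add_cancel _ _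
    · refine AffineSpace.hom_ext (by simp [t, t']) fun i => ?_
      rw [Scheme.Hom.comp_appTop, Scheme.Hom.id_appTop, CommRingCat.comp_apply,
        AffineSpace.homOfVector_appTop_coord, map_sub, key, AffineSpace.homOfVector_appTop_coord,
        AffineSpace.homOfVector_over]
      exact add_sub_cancel_right _ _
  have e : AffineSpace.homOfVector g v ≫ t = AffineSpace.homOfVector g fun i => v i - g.appTop (c i) := by
    refine AffineSpace.hom_ext (by simp [t]) fun i => ?_
    rw [Scheme.Hom.comp_appTop, CommRingCat.comp_apply, AffineSpace.homOfVector_appTop_coord,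
      AffineSpace.homOfVector_appTop_coord, map_sub, key, AffineSpace.homOfVector_appTop_coord,
      AffineSpace.homOfVector_over]
  rw [← e]
  haveI := h
  infer_instance

/-- A smooth morphism has, near any point, etale coordinates. -/
theorem exists_chart {X Y : Scheme.{u}} (f : X ⟶ Y) [LocallyOfFinitePresentation f] (x : X)
    (hx : x ∈ f.smoothLocus) :
    ∃ (U : Y.Opens) (V : X.Opens) (_ : x ∈ V) (hVU : V ≤ f ⁻¹ᵁ U) (m : ℕ)
      (v : ULift.{u} (Fin m) → Γ(V, ⊤)), Etale (AffineSpace.homOfVector (f.resLE U V hVU) v) := by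
  haveI : Smooth (f.smoothLocus.ι ≫ f) := by
    rw [← Scheme.Hom.smoothLocus_eq_top_iff,
      ← Scheme.Hom.preimage_smoothLocus_eq f.smoothLocus.ι f, Scheme.Opens.ι_preimage_self]
  obtain ⟨U, hU, V₀, hV₀, hxV₀, e, hstd⟩ :=
    Smooth.exists_isStandardSmooth (f.smoothLocus.ι ≫ f) ⟨x, hx⟩
  let j : (V₀ : Scheme.{u}) ⟶ X := V₀.ι ≫ f.smoothLocus.ι
  have hVU : f.smoothLocus.ι ''ᵁ V₀ ≤ f ⁻¹ᵁ U := by
    rintro _ ⟨w, hw, rfl⟩
    exact e hw
  haveI : IsAffine (U : Scheme.{u}) := hU
  haveI : IsAffine (V₀ : Scheme.{u}) := hV₀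
  let f₀ : (V₀ : Scheme.{u}) ⟶ U := (f.smoothLocus.ι ≫ f).resLE U V₀ e
  have hf₀ : f₀.appTop.hom.IsStandardSmooth :=
    (RingHom.isStandardSmooth_respectsIso.arrow_mk_iso_iff
      (arrowResLEAppIso (f.smoothLocus.ι ≫ f) U V₀ e)).mpr hstd
  obtain ⟨m, g, hgC, hg⟩ := RingHom.IsStandardSmooth.exists_etale_mvPolynomial hf₀
  let v₀ : ULift.{u} (Fin m) → Γ(V₀, ⊤) := fun i => g (MvPolynomial.X i.down)
  have hv₀ : Etale (AffineSpace.homOfVector f₀ v₀) := by
    refine etale_homOfVector f₀ v₀ ?_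
    have : eval₂Hom f₀.appTop.hom v₀ =
        g.comp (renameEquiv _ (Equiv.ulift.{u} (α := Fin m))).toRingEquiv.toRingHom := by
      refine MvPolynomial.ringHom_ext (fun a => ?_) fun i => ?_
      · simp only [coe_eval₂Hom, eval₂_C]
        rw [← hgC]
        simp
      · simp [v₀]
    rw [this]
    exact RingHom.Etale.respectsIso.2 g _ hg
  let k : ((f.smoothLocus.ι ''ᵁ V₀ : X.Opens) : Scheme.{u}) ⟶ V₀ :=
    (f.smoothLocus.ι.isoImage V₀).inv
  refine ⟨U, f.smoothLocus.ι ''ᵁ V₀, ⟨_, hxV₀, rfl⟩, hVU, m, k.appTop.hom ∘ v₀, ?_⟩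
  have : k ≫ AffineSpace.homOfVector f₀ v₀ =
      AffineSpace.homOfVector (f.resLE U _ hVU) (k.appTop.hom ∘ v₀) := by
    rw [AffineSpace.comp_homOfVector]
    congr 1
    rw [← cancel_mono U.ι]
    simp [f₀, k, Scheme.Hom.resLE_comp_ι]
  rw [← this]
  infer_instance

theorem result {X Y : Scheme.{u}} (f : X ⟶ Y) [LocallyOfFinitePresentation f] (i : Y ⟶ X)
    (hi : i ≫ f = 𝟙 Y) (y : Y) :
    i.base y ∈ f.smoothLocus ↔
      ∃ (U : Y.Opens) (V : X.Opens) (_ : y ∈ U) (hUV : U ≤ i ⁻¹ᵁ V) (hVU : V ≤ f ⁻¹ᵁ U) (m : ℕ)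
        (v : ULift.{u} (Fin m) → Γ(V, ⊤)),
        Etale (AffineSpace.homOfVector (f.resLE U V hVU) v) ∧
          ∀ j, (i.resLE V U hUV).appTop (v j) = 0 := by
  have hpt : ∀ w : Y, f.base (i.base w) = w := fun w => by
    rw [← Scheme.Hom.comp_apply, hi]; simp
  have hfi : f.base (i.base y) = y := hpt y
  constructor
  · intro hy
    obtain ⟨U₀, V₀, hxV₀, hVU₀, m, v₀, hv₀⟩ := exists_chart f (i.base y) hy
    let U : Y.Opens := U₀ ⊓ i ⁻¹ᵁ V₀
    let V : X.Opens := V₀ ⊓ f ⁻¹ᵁ U
    have hyU : y ∈ U := ⟨hfi ▸ hVU₀ hxV₀, hxV₀⟩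
    have hUV : U ≤ i ⁻¹ᵁ V := fun w hw =>
      ⟨hw.2, show f.base (i.base w) ∈ U from (hpt w).symm ▸ hw⟩
    have hVU : V ≤ f ⁻¹ᵁ U := inf_le_right
    let k : (V : Scheme.{u}) ⟶ V₀ := X.homOfLE inf_le_left
    let v₁ : ULift.{u} (Fin m) → Γ(V, ⊤) := k.appTop.hom ∘ v₀
    have hv₁ : Etale (AffineSpace.homOfVector (f.resLE U V hVU) v₁) := by
      haveI : IsOpenImmersion (AffineSpace.map (ULift.{u} (Fin m)) (Y.homOfLE (inf_le_left : U ≤ U₀))) :=
        MorphismProperty.of_isPullback (P := @IsOpenImmersion)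
          (AffineSpace.isPullback_map (Y.homOfLE (inf_le_left : U ≤ U₀))).flip inferInstance
      have hh : AffineSpace.homOfVector (f.resLE U V hVU) v₁ ≫
          AffineSpace.map (ULift.{u} (Fin m)) (Y.homOfLE (inf_le_left : U ≤ U₀)) =
          k ≫ AffineSpace.homOfVector (f.resLE U₀ V₀ hVU₀) v₀ := by
        refine AffineSpace.hom_ext ?_ fun l => ?_
        · simp only [Category.assoc, AffineSpace.map_over, AffineSpace.homOfVector_over,
            AffineSpace.homOfVector_over_assoc, k, Scheme.Hom.resLE_map, Scheme.Hom.map_resLE]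
        · rw [Scheme.Hom.comp_appTop, Scheme.Hom.comp_appTop, CommRingCat.comp_apply,
            CommRingCat.comp_apply, AffineSpace.map_appTop_coord,
            AffineSpace.homOfVector_appTop_coord, AffineSpace.homOfVector_appTop_coord]
          rfl
      haveI : Etale (AffineSpace.homOfVector (f.resLE U V hVU) v₁ ≫
          AffineSpace.map (ULift.{u} (Fin m)) (Y.homOfLE (inf_le_left : U ≤ U₀))) := by
        rw [hh]; infer_instance
      exact Etale.of_comp _ (AffineSpace.map (ULift.{u} (Fin m)) (Y.homOfLE (inf_le_left : U ≤ U₀)))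
    let s := i.resLE V U hUV
    let c : ULift.{u} (Fin m) → Γ(U, ⊤) := fun l => s.appTop (v₁ l)
    have hs : s ≫ f.resLE U V hVU = 𝟙 _ := by
      rw [← cancel_mono U.ι]
      simp [s, Scheme.Hom.resLE_comp_ι, Scheme.Hom.resLE_comp_ι_assoc, hi]
    refine ⟨U, V, hyU, hUV, hVU, m, fun l => v₁ l - (f.resLE U V hVU).appTop (c l),
      etale_translate _ _ c hv₁, fun l => ?_⟩
    show s.appTop (v₁ l - (f.resLE U V hVU).appTop (c l)) = 0
    rw [map_sub, ← CommRingCat.comp_apply (f.resLE U V hVU).appTop s.appTop, ← Scheme.Hom.comp_appTop, hs,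
      Scheme.Hom.id_appTop]
    exact sub_self _
  · rintro ⟨U, V, hyU, hUV, hVU, m, v, hv, -⟩
    haveI := smooth_over (ULift.{u} (Fin m)) (U : Scheme.{u})
    haveI : Smooth (V.ι ≫ f) := by
      rw [← Scheme.Hom.resLE_comp_ι f hVU, ← AffineSpace.homOfVector_over (f.resLE U V hVU) v]
      infer_instance
    have h1 : (⟨i.base y, hUV hyU⟩ : V) ∈ (V.ι ≫ f).smoothLocus := by
      rw [Scheme.Hom.smoothLocus_eq_top]; trivial
    rw [← Scheme.Hom.preimage_smoothLocus_eq V.ι f] at h1
    exact h1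

end Groth.L27.SecChart
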